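import Groth.Prelude.Def_ClSub2
import Mathlib.AlgebraicGeometry.Morphisms.Proper
import Mathlib.AlgebraicGeometry.IdealSheaf.Functorial

/-!
# Closed subsets proper over a base
-/

noncomputable section

universe u

open CategoryTheory Limits AlgebraicGeometry TopologicalSpace

namespace Groth.Agent.ProperOver

variable {T S : Scheme.{u}} (g : T ⟶ S) {ι : Type*} {P : ι → Scheme.{u}} (h : ∀ k, P k ⟶ T)

/-- Universal closedness descends along a finite jointly surjective family. -/
theorem universallyClosed_of_family [Finite ι] (hs : ∀ t : T, ∃ k z, h k z = t)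
    (hc : ∀ k, UniversallyClosed (h k ≫ g)) : UniversallyClosed g := by
  constructor
  intro X' Y' i₁ i₂ f' H
  intro C hC
  have hk : ∀ k, UniversallyClosed (pullback.fst i₁ (h k) ≫ f') := fun k => by
    exact MorphismProperty.of_isPullback
      ((IsPullback.of_hasPullback i₁ (h k)).paste_horiz H).flip (hc k)
  have : (f' '' C) = ⋃ k, (pullback.fst i₁ (h k) ≫ f') '' ((pullback.fst i₁ (h k)) ⁻¹' C) := by
    ext y
    simp only [Set.mem_image, Set.mem_iUnion, Set.mem_preimage]
    constructor
    · rintro ⟨x, hx, rfl⟩
      obtain ⟨k, z, hz⟩ := hs (i₁ x)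
      have hmem : x ∈ Set.range (pullback.fst i₁ (h k)) := by
        rw [Scheme.Pullback.range_fst]
        exact ⟨z, hz⟩
      obtain ⟨w, rfl⟩ := hmem
      exact ⟨k, w, hx, Scheme.Hom.comp_apply _ _ _⟩
    · rintro ⟨k, w, hw, rfl⟩
      exact ⟨_, hw, (Scheme.Hom.comp_apply _ _ _).symm⟩
  rw [this]
  exact isClosed_iUnion_of_finite fun k =>
    (hk k).universally_isClosedMap _ _ _ IsPullback.of_id_snd _
      (hC.preimage (Scheme.Hom.continuous _))

/-- Separatedness descends along a finite jointly surjective family of universally closed maps. -/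
theorem isSeparated_of_family [Finite ι] [∀ k, UniversallyClosed (h k)]
    (hs : ∀ t : T, ∃ k z, h k z = t) (hsep : ∀ k, IsSeparated (h k ≫ g)) : IsSeparated g := by
  refine ⟨?_⟩
  have hr : IsClosed (Set.range (pullback.diagonal g)) := by
    let m : ∀ k, pullback (h k ≫ g) (h k ≫ g) ⟶ pullback g g := fun k =>
      pullback.map _ _ _ _ (h k) (h k) (𝟙 S) (by simp) (by simp)
    have hm : ∀ k, UniversallyClosed (m k) := fun k =>
      MorphismProperty.pullbackMap (P := @UniversallyClosed)
        (f' := g) (g' := g) (i₁ := h k) (i₂ := h k) inferInstance inferInstance rfl rfl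
    have hd : ∀ k, pullback.diagonal (h k ≫ g) ≫ m k = h k ≫ pullback.diagonal g := fun k => by
      apply pullback.hom_ext
      · simp only [m, pullback.map, Category.assoc, pullback.diagonal_fst, Category.comp_id]
        erw [pullback.lift_fst, pullback.diagonal_fst_assoc]
      · simp only [m, pullback.map, Category.assoc, pullback.diagonal_snd, Category.comp_id]
        erw [pullback.lift_snd, pullback.diagonal_snd_assoc]
    have : Set.range (pullback.diagonal g) =
        ⋃ k, m k '' Set.range (pullback.diagonal (h k ≫ g)) := by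
      ext y
      simp only [Set.mem_range, Set.mem_iUnion, Set.mem_image]
      constructor
      · rintro ⟨t, rfl⟩
        obtain ⟨k, z, rfl⟩ := hs t
        refine ⟨k, _, ⟨z, rfl⟩, ?_⟩
        rw [← Scheme.Hom.comp_apply, hd, Scheme.Hom.comp_apply]
      · rintro ⟨k, _, ⟨z, rfl⟩, rfl⟩
        refine ⟨h k z, ?_⟩
        rw [← Scheme.Hom.comp_apply, ← hd, Scheme.Hom.comp_apply]
    rw [this]
    exact isClosed_iUnion_of_finite fun k =>
      (hm k).universally_isClosedMap _ _ _ IsPullback.of_id_snd _
        (haveI := (hsep k); (pullback.diagonal (h k ≫ g)).isClosedEmbedding.isClosed_range)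
  exact IsClosedImmersion.of_isPreimmersion _ hr

/-- Properness descends along a finite jointly surjective family of universally closed maps. -/
theorem isProper_of_family [Finite ι] [LocallyOfFiniteType g] [∀ k, UniversallyClosed (h k)]
    (hs : ∀ t : T, ∃ k z, h k z = t) (hp : ∀ k, IsProper (h k ≫ g)) : IsProper g := by
  haveI := isSeparated_of_family g h hs fun k => (hp k).toIsSeparated
  haveI := universallyClosed_of_family g h hs fun k => (hp k).toUniversallyClosed
  exact ⟨⟩

variable {X : Scheme.{u}} (f : X ⟶ S) [LocallyOfFiniteType f]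

/-- The reduced closed subscheme on a closed set. -/
abbrev red {Z : Set X} (hZ : IsClosed Z) : X.IdealSheafData :=
  Scheme.IdealSheafData.vanishingIdeal ⟨Z, hZ⟩

omit [LocallyOfFiniteType f] in
lemma range_red {Z : Set X} (hZ : IsClosed Z) : Set.range (red hZ).subschemeι = Z := by
  rw [Scheme.IdealSheafData.range_subschemeι]
  exact Scheme.IdealSheafData.coe_support_vanishingIdeal _

omit [LocallyOfFiniteType f] in
lemma ker_le_red {W : Scheme.{u}} (c : W ⟶ X) [QuasiCompact c] {Z : Set X} (hZ : IsClosed Z)
    (h : Z ⊆ closure (Set.range c)) : c.ker ≤ (red hZ).subschemeι.ker := by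
  rw [Scheme.IdealSheafData.ker_subschemeι]
  refine Scheme.IdealSheafData.le_support_iff_le_vanishingIdeal.1 ?_
  intro x hx
  have := h hx
  rw [← SetLike.mem_coe, Scheme.Hom.support_ker]
  exact this

/-- A closed subset with some proper subscheme structure is proper over the base, and conversely. -/
theorem isProperOver_iff {W : Scheme.{u}} (i : W ⟶ X) [IsClosedImmersion i] {Z : Set X}
    (hr : Set.range i = Z) : ClSub.IsProperOver f Z ↔ IsProper (i ≫ f) := by
  have hZ : IsClosed Z := hr ▸ i.isClosedEmbedding.isClosed_range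
  let l : (red hZ).subscheme ⟶ W :=
    IsClosedImmersion.lift i (red hZ).subschemeι (ker_le_red i hZ (hr ▸ subset_closure))
  have hl : l ≫ i = (red hZ).subschemeι := IsClosedImmersion.lift_fac _ _ _
  haveI : IsClosedImmersion (l ≫ i) := hl ▸ inferInstance
  haveI : IsClosedImmersion l := IsClosedImmersion.of_comp l i
  constructor
  · rintro ⟨_, hp⟩
    refine isProper_of_family (i ≫ f) (fun _ : Unit => l) (fun w => ?_) fun _ => ?_
    · have : i w ∈ Set.range (red hZ).subschemeι := by
        rw [range_red hZ, ← hr]; exact ⟨w, rfl⟩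
      obtain ⟨z, hz⟩ := this
      refine ⟨(), z, i.isClosedEmbedding.injective ?_⟩
      rw [← Scheme.Hom.comp_apply, hl, hz]
    · rw [← Category.assoc, hl]
      exact hp
  · intro hp
    refine ⟨hZ, ?_⟩
    change IsProper ((red hZ).subschemeι ≫ f)
    rw [← hl, Category.assoc]
    infer_instance

lemma isClosed_of_isProperOver {Z : Set X} (h : ClSub.IsProperOver f Z) : IsClosed Z := h.1

/-- Closed subsets of proper closed subsets are proper. -/
theorem isProperOver_mono {Z Z' : Set X} (h : ClSub.IsProperOver f Z) (hsub : Z' ⊆ Z)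
    (hZ' : IsClosed Z') : ClSub.IsProperOver f Z' := by
  obtain ⟨hZ, hp⟩ := h
  let l : (red hZ').subscheme ⟶ (red hZ).subscheme :=
    IsClosedImmersion.lift (red hZ).subschemeι (red hZ').subschemeι
      (ker_le_red _ hZ' (by rw [range_red hZ]; exact hsub.trans subset_closure))
  have hl : l ≫ (red hZ).subschemeι = (red hZ').subschemeι := IsClosedImmersion.lift_fac _ _ _
  haveI : IsClosedImmersion (l ≫ (red hZ).subschemeι) := hl ▸ inferInstance
  haveI : IsClosedImmersion l := IsClosedImmersion.of_comp l (red hZ).subschemeι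
  refine ⟨hZ', ?_⟩
  change IsProper ((red hZ').subschemeι ≫ f)
  rw [← hl, Category.assoc]
  haveI : IsProper ((red hZ).subschemeι ≫ f) := hp
  infer_instance

/-- Finite unions of proper closed subsets are proper. -/
theorem isProperOver_iUnion [Finite ι] (Z : ι → Set X) (hZ : ∀ k, ClSub.IsProperOver f (Z k)) :
    ClSub.IsProperOver f (Set.iUnion Z) := by
  have hc : IsClosed (Set.iUnion Z) := isClosed_iUnion_of_finite fun k => (hZ k).1
  let l : ∀ k, (red (hZ k).1).subscheme ⟶ (red hc).subscheme := fun k =>
    IsClosedImmersion.lift (red hc).subschemeι (red (hZ k).1).subschemeι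
      (ker_le_red _ _ (by rw [range_red hc]; exact (Set.subset_iUnion Z k).trans subset_closure))
  have hl : ∀ k, l k ≫ (red hc).subschemeι = (red (hZ k).1).subschemeι := fun k =>
    IsClosedImmersion.lift_fac _ _ _
  haveI : ∀ k, IsClosedImmersion (l k) := fun k => by
    haveI : IsClosedImmersion (l k ≫ (red hc).subschemeι) := hl k ▸ inferInstance
    exact IsClosedImmersion.of_comp (l k) (red hc).subschemeι
  refine ⟨hc, isProper_of_family _ l (fun t => ?_) fun k => ?_⟩
  · have : (red hc).subschemeι t ∈ Set.iUnion Z := (range_red hc).le ⟨t, rfl⟩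
    obtain ⟨k, hk⟩ := Set.mem_iUnion.1 this
    obtain ⟨z, hz⟩ := (range_red (hZ k).1).ge hk
    refine ⟨k, z, (red hc).subschemeι.isClosedEmbedding.injective ?_⟩
    rw [← Scheme.Hom.comp_apply, hl, hz]
  · rw [← Category.assoc, hl]
    exact (hZ k).2

omit [LocallyOfFiniteType f] in
/-- The image of a universally closed map with proper composite is proper over the base. -/
theorem isProperOver_range {Y P : Scheme.{u}} (q : Y ⟶ S) [LocallyOfFiniteType q] (c : P ⟶ Y)
    [UniversallyClosed c] [IsProper (c ≫ q)] : ClSub.IsProperOver q (Set.range c) := by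
  have hr : Set.range c.imageι = Set.range c := by
    rw [show c.imageι = c.ker.subschemeι from rfl, Scheme.IdealSheafData.range_subschemeι,
      Scheme.Hom.support_ker]
    exact c.isClosedMap.isClosed_range.closure_eq
  haveI : UniversallyClosed (c.toImage ≫ c.imageι) := by rw [c.toImage_imageι]; infer_instance
  haveI : UniversallyClosed c.toImage := .of_comp_of_isSeparated c.toImage c.imageι
  refine (isProperOver_iff q c.imageι hr).2 ?_
  refine isProper_of_family (c.imageι ≫ q) (fun _ : Unit => c.toImage) (fun t => ?_) fun _ => ?_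
  · obtain ⟨z, hz⟩ := hr.le ⟨t, rfl⟩
    refine ⟨(), z, c.imageι.isClosedEmbedding.injective ?_⟩
    rw [← Scheme.Hom.comp_apply, c.toImage_imageι, hz]
  · rw [c.toImage_imageι_assoc]
    infer_instance

end Groth.Agent.ProperOver
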